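import Mathlib

/-!
# Project RSM (helper8): the Schur multiplier of the small Ree groups `²G₂(q)` is trivial (S2113)

Alperin–Gorenstein, done by hand with commutators of lifts in a central extension.

Abstract setting for the 3-part: a group `G` containing the Sylow 3-subgroup
`U = {x t u v}` of `²G₂(q)` with its explicit multiplication, and a generator `h0` of the torus
acting on it with the weights `(a0, N a0, a0 * N a0)`, `N a = a * (a ^ 3 ^ m) ^ 3 = a ^ (1 + 3θ)`.
-/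

set_option autoImplicit false

namespace Cfsg.Agent.Lib.helper8.RSM

universe u v w

/-- `N a = a ^ (1 + 3θ)`, where `θ` is the `3 ^ m`-th power map -/
def nrm {K : Type v} [Field K] (m : ℕ) (a : K) : K := a * (a ^ 3 ^ m) ^ 3

/-- The data of the Sylow 3-subgroup of `²G₂(q)`, `q = 3 ^ (2 m + 1)`, and of a generator of the
torus normalising it. -/
structure ReeU (G : Type u) [Group G] (K : Type v) [Field K] [Fintype K] (m : ℕ) where
  hm : 1 ≤ m
  hK : Fintype.card K = 3 ^ (2 * m + 1)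
  /-- the elements of `U` -/
  x : K → K → K → G
  x_mul : ∀ t u v t' u' v' : K, x t u v * x t' u' v' =
    x (t + t') (u + u' - t * (t' ^ 3 ^ m) ^ 3)
      (v + v' - t' * u - t ^ 2 * (t' ^ 3 ^ m) ^ 3 + t * t' * (t' ^ 3 ^ m) ^ 3)
  x_inj : ∀ t u v t' u' v' : K, x t u v = x t' u' v' → t = t' ∧ u = u' ∧ v = v'
  /-- a generator of `Kˣ` -/
  a0 : K
  a0_gen : ∀ c : K, c ≠ 0 → ∃ i : ℕ, c = a0 ^ i
  /-- the corresponding generator of the torus -/
  h0 : G
  h0_conj : ∀ t u v : K, h0 * x t u v * h0⁻¹ = x (a0 * t) (nrm m a0 * u) (a0 * nrm m a0 * v)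
  h0_pow : h0 ^ (3 ^ (2 * m + 1) - 1) = 1
  card : Nat.card G = (3 ^ (2 * m + 1)) ^ 3 * (3 ^ (2 * m + 1) - 1) * ((3 ^ (2 * m + 1)) ^ 3 + 1)

namespace ReeU

variable {G : Type u} [Group G] {K : Type v} [Field K] [Fintype K] {m : ℕ}

/-- the Sylow 3-subgroup `U` (as a closure, to keep the definition proof-free; row `mem_U_iff`) -/
def U (RU : ReeU G K m) : Subgroup G :=
  Subgroup.closure {g | ∃ t u v : K, g = RU.x t u v}

/-- `g` lies in `U` -/
def InU (RU : ReeU G K m) (g : G) : Prop := ∃ t u v : K, g = RU.x t u v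

/-- `g` lies in `U₂ = U' = {x 0 u v}` -/
def InU2 (RU : ReeU G K m) (g : G) : Prop := ∃ u v : K, g = RU.x 0 u v

/-- `g` lies in `U₃ = Z(U) = {x 0 0 v}` -/
def InU3 (RU : ReeU G K m) (g : G) : Prop := ∃ v : K, g = RU.x 0 0 v

end ReeU

/-- the product of the conjugates `H0 ^ i * w * H0 ^ (-i)`, `i < n` -/
def avg {Γ : Type w} [Group Γ] (H0 : Γ) (n : ℕ) (w : Γ) : Γ :=
  ((List.range n).map fun i => H0 ^ i * w * (H0 ^ i)⁻¹).prod

/-- the projection of the (abelian) preimage of `U₂` onto the kernel (of exponent 3) along the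
commutator with the lifted torus: `w ↦ (∏_{i < q - 1} H0 ^ i * w * H0 ^ (-i))⁻¹` -/
def proj {Γ : Type w} [Group Γ] (H0 : Γ) (m : ℕ) (w : Γ) : Γ :=
  (avg H0 (3 ^ (2 * m + 1) - 1) w)⁻¹

end Cfsg.Agent.Lib.helper8.RSM
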