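import Mathlib
import Cfsg.Agent.Lib.helper8.RSM.Defs
import Cfsg.Agent.Lib.helper8.ChevRee48

/-!
# Project RSM, the bridge: `²G₂(q)` carries the data `ReeU`
-/

set_option autoImplicit false

namespace Cfsg.Agent.Lib.helper8.RSM

open Cfsg.Lie Cfsg.Lie.ChevalleyDatum Cfsg.Agent.Lib.helper8

universe u

variable {K : Type u} [Field K] [Fintype K] {m : ℕ}

/-- `3 θ² = 1` -/
theorem rsmbr_tits (hK : Fintype.card K = 3 ^ (2 * m + 1)) (a : K) :
    ((a ^ 3 ^ m) ^ 3) ^ 3 ^ m = a := by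
  have h := FiniteField.pow_card a
  rw [hK] at h
  rw [← pow_mul, ← pow_mul]
  have e : 3 ^ m * (3 * 3 ^ m) = 3 ^ (2 * m + 1) := by ring
  rw [e]
  exact h

/-- the bridge: the small Ree group carries the data `ReeU` -/
theorem rsm_ree_u (hm : 1 ≤ m) (hK : Fintype.card K = 3 ^ (2 * m + 1)) :
    Nonempty (ReeU ↥(twistedG2 K (3 ^ m)) K m) := by
  classical
  have hD : chevG2 ∈ [chevG2, chevB2, chevD4, chevF4, chevE6, chevE7, chevE8] := by simp
  have hB := h8base_all.{u} chevG2 hD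
  have hA := h8reflAll chevG2 hD
  have hC := h8commAll.{u} chevG2 hD
  have hW := h8bn2_all chevG2 hD
  obtain ⟨hO, hO2⟩ := h8ord_all chevG2 hD
  have hch3 := h8ree_char3 hK
  obtain ⟨R, hfe⟩ := h8ree_setup hK hB
  have hcardU : Nat.card Kˣ = 3 ^ (2 * m + 1) - 1 := by
    rw [Nat.card_eq_fintype_card, Fintype.card_units, hK]
  have hbij : Function.Bijective (h8reeChiHom (K := K) hB hA hW (3 ^ m)) := by
    apply (h8reeChiHom_injective hK hB hA hW).bijective_of_nat_card_le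
    rw [hcardU, h8ree_H1_card hK]
  obtain ⟨μ, hμ⟩ := IsCyclic.exists_ofOrder_eq_natCard (α := Kˣ)
  have hμtop : ∀ y : Kˣ, y ∈ Submonoid.powers μ := by
    intro y
    rw [mem_powers_iff_mem_zpowers]
    have : Subgroup.zpowers μ = ⊤ := by
      apply Subgroup.eq_top_of_card_eq
      rw [Nat.card_zpowers, hμ]
    rw [this]; trivial
  obtain ⟨k, hk⟩ := hbij.2 μ
  have h7 : h8chi chevG2 hB k.val 7 = μ.val := congrArg Units.val hk
  have hfix := (h8ree_G1_fix R hC (3 ^ m) hfe k.val k.2.2).2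
  have h6 : h8chi chevG2 hB k.val 6 = (μ.val ^ 3 ^ m) ^ 3 := by
    have := h8ree_chi_sig R hA hW k.val k.2.1 hfix 7 (by decide)
    rw [h8reeE_short R 7 (by decide), h7, hfe] at this
    exact this
  obtain ⟨_, _, h10, h11⟩ := h8ree_chi_mult hB hC hO2 k.val k.2.1
  have hT : ∀ a : K, ((a ^ 3 ^ m) ^ 3) ^ 3 ^ m = a := rsmbr_tits hK
  have h7' : (h8chi chevG2 hB k.val 6) ^ 3 ^ m = μ.val := by rw [h6]; exact hT _
  have memW : ∀ t u v : K, h8reeW hB m t u v ∈ twistedG2 K (3 ^ m) := fun t u v =>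
    ((h8reeW_mem_iff hK hB _).mpr ⟨t, u, v, rfl⟩).2
  refine ⟨{
    hm := hm
    hK := hK
    x := fun t u v => ⟨h8reeW hB m t u v, memW t u v⟩
    x_mul := ?_
    x_inj := ?_
    a0 := h8chi chevG2 hB k.val 6
    a0_gen := ?_
    h0 := ⟨k.val, k.2.2⟩
    h0_conj := ?_
    h0_pow := ?_
    card := h8ree_card hK }⟩
  · -- x_mul
    intro t u v t' u' v'
    apply Subtype.ext
    exact h8reeW_mul' hK hB t u v t' u' v'
  · -- x_inj
    intro t u v t' u' v' h
    exact h8reeW_inj hK hB t u v t' u' v' (congrArg Subtype.val h)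
  · -- a0_gen
    intro c hc
    have hd : c ^ 3 ^ m ≠ 0 := pow_ne_zero _ hc
    obtain ⟨j, hj⟩ := hμtop (Units.mk0 _ hd)
    have hj' : (μ.val : K) ^ j = c ^ 3 ^ m := by
      have := congrArg Units.val hj
      simpa using this
    refine ⟨j, ?_⟩
    rw [h6]
    have e : (((μ.val : K) ^ 3 ^ m) ^ 3) ^ j = (((μ.val : K) ^ j) ^ 3 ^ m) ^ 3 := by
      rw [← pow_mul, ← pow_mul, ← pow_mul, ← pow_mul]
      congr 1
      ring
    rw [e, hj']
    have h := FiniteField.pow_card c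
    rw [hK] at h
    rw [← pow_mul, ← pow_mul]
    have e2 : 3 ^ m * (3 ^ m * 3) = 3 ^ (2 * m + 1) := by ring
    rw [e2]
    exact h.symm
  · -- h0_conj
    intro t u v
    apply Subtype.ext
    show k.val * h8reeW hB m t u v * k.val⁻¹ = _
    rw [h8reeW_conj' hK hB k.val k.2 t u v]
    show h8reeW hB m _ _ _ = h8reeW hB m _ _ _
    have e10 : h8chi chevG2 hB k.val 10 = nrm m (h8chi chevG2 hB k.val 6) := by
      unfold nrm
      rw [h10, h7', h7]
    have e11 : h8chi chevG2 hB k.val 11 =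
        h8chi chevG2 hB k.val 6 * nrm m (h8chi chevG2 hB k.val 6) := by
      unfold nrm
      rw [h11, h7', h7]
      ring
    rw [e10, e11]
  · -- h0_pow
    apply Subtype.ext
    show k.val ^ (3 ^ (2 * m + 1) - 1) = 1
    have h := pow_card_eq_one' (G := ↥(chevG2.diagonalSubgroup K ⊓ twistedG2 K (3 ^ m))) (x := k)
    rw [h8ree_H1_card hK] at h
    have := congrArg Subtype.val h
    simpa using this

end Cfsg.Agent.Lib.helper8.RSM
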