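import Mathlib
import Cfsg.Agent.Lib.helper8.RSM.Defs
import Cfsg.Agent.Lib.Helper5.StemA
import Cfsg.Agent.Lib.helper3.StemTools
import Cfsg.Agent.Lib.helper4.StemCube
import Cfsg.Agent.Lib.Helper28.RSMC6
import Cfsg.Agent.Lib.helper17.RSMF2
import Cfsg.Agent.Lib.helper4.RSMG1
import Cfsg.Agent.Lib.Helper16.RSMG2

/-!
# Project RSM, assembly
-/

set_option autoImplicit false

/-! ## The assembly -/

namespace Cfsg.Agent.Lib.helper8.RSM

open scoped commutatorElement

universe u v w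

/-- RSM main: a finite group with the Sylow 3-data `ReeU`, an elementary abelian self-centralising
Sylow 2-subgroup of order 8 with normaliser of order 168, and cyclic Sylow `p`-subgroups for `p > 3`
has no non-trivial finite stem extension. -/
theorem rsm_main {G : Type u} [Group G] [Finite G] {K : Type v} [Field K] [Fintype K] {m : ℕ}
    (RU : ReeU G K m) (S : Sylow 2 G) (h8 : Nat.card S = 8) (hexp : ∀ x ∈ S, x * x = 1)
    (hC : Subgroup.centralizer ((S : Subgroup G) : Set G) = S)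
    (hN : Nat.card (Subgroup.normalizer ((S : Subgroup G) : Set G)) = 168)
    (hcyc : ∀ (p : ℕ) [Fact p.Prime], 3 < p → ∀ P : Sylow p G, IsCyclic (P : Subgroup G))
    {Γ : Type w} [Group Γ] [Finite Γ] (σ : Γ →* G) (hσ : Cfsg.IsStemExtension σ) :
    ∀ z ∈ σ.ker, z = 1 := by
  obtain ⟨hsurj, hcen, hder⟩ := hσ
  apply Cfsg.Agent.Lib.helper3.stem_ker_trivial_of_primes σ
  intro p hp z hz hzp
  rcases lt_trichotomy p 3 with hlt | heq | hgt
  · -- p = 2
    have hp2 : p = 2 := by
      have := hp.out.two_le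
      omega
    subst hp2
    obtain ⟨g, hg7, hgS, hfix⟩ := e8_seven S h8 hC hN
    obtain ⟨e1, e2, e3, a, h12, h13, h23, ha1, ha2, ha3, hcl⟩ := e8_gens S h8 hexp g hg7 hgS hfix
    have hcube := Cfsg.Agent.Lib.helper4.comm_comap_trivial_of_cube σ hsurj hcen e1 e2 e3 a
      h12 h13 h23 ha1 ha2 ha3
    refine Cfsg.Agent.Lib.helper3.stem_no_prime_of_subgroup σ hsurj hcen hder
      (Subgroup.closure {e1, e2, e3}) (p := 2) ?_ (fun w hw _ => hcube w hw) hz hzp
    rw [hcl]
    exact S.not_dvd_index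
  · -- p = 3
    subst heq
    by_contra hz1
    obtain ⟨Γ', _, _, σ', hσ', hcard⟩ :=
      Cfsg.Agent.Lib.Helper5.Stem.exists_stem_prime_ker σ ⟨hsurj, hcen, hder⟩ 3 z hz hzp hz1
    obtain ⟨hsurj', hcen', hder'⟩ := hσ'
    have h3 : ∀ κ ∈ σ'.ker, κ ^ 3 = 1 := by
      intro κ hκ
      have h := pow_card_eq_one' (G := σ'.ker) (x := ⟨κ, hκ⟩)
      rw [hcard] at h
      exact congrArg Subtype.val h
    have htriv : ∀ z' ∈ σ'.ker, z' = 1 := by
      intro z' hz'
      exact Cfsg.Agent.Lib.helper3.stem_no_prime_of_subgroup σ' hsurj' hcen' hder' RU.U (p := 3)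
        (U_index RU) (three_part RU hsurj' hcen' h3) hz' (h3 z' hz')
    have hone : Nat.card σ'.ker = 1 := by
      rw [Nat.card_eq_one_iff_unique]
      refine ⟨⟨fun a b => ?_⟩, ⟨1⟩⟩
      apply Subtype.ext
      rw [htriv a a.2, htriv b b.2]
    omega
  · -- p > 3
    obtain ⟨P⟩ : Nonempty (Sylow p G) := inferInstance
    have : IsCyclic (P : Subgroup G) := hcyc p hgt P
    have hc := Cfsg.Agent.Lib.helper3.comm_comap_trivial_of_cyclic σ hcen (P : Subgroup G)
    exact Cfsg.Agent.Lib.helper3.stem_no_prime_of_subgroup σ hsurj hcen hder (P : Subgroup G)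
      P.not_dvd_index (fun w hw _ => hc w hw) hz hzp

end Cfsg.Agent.Lib.helper8.RSM
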